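import Cfsg.Agent.CharDeep.PowerDegrees
import Cfsg.Agent.Characters.Linear
import Cfsg.Agent.Prune
set_option linter.all false
prune_inst 0x7f00000000000000000000000000000000000000000000000000000000000000000000000000000000000000000000000000000000000000000000000000000000000000000000000000000000000000003fffffffffffffffffffffffffffbeffbdffffffff
open scoped Cfsg.Agent.FastGrp

/-!
# Multiplicities below an overgroup (helper710)

`j : N →* G` is injective; if a linear character `ψ` of `A` occurs at most once in the pull-back of each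
irreducible character of `G` then it occurs at most once in a sum of two `G`-conjugate irreducible
characters of `N`.
-/

set_option autoImplicit false
set_option linter.unusedSectionVars false

namespace Cfsg.Agent.H710.Gow.Star

open Cfsg Cfsg.Agent.Characters.Core
open scoped ComplexConjugate

section

variable {N G A : Type*} [Group N] [Fintype N] [Group G] [Fintype G] [Group A] [Fintype A]

theorem inner_bij (c : N →* N) (hc : Function.Bijective c) (f g : N → ℂ) :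
    classInner (f ∘ c) (g ∘ c) = classInner f g := by
  rw [classInner_def, classInner_def]
  congr 1
  exact Fintype.sum_bijective c hc _ _ fun x => rfl

/-- every irreducible character of `N` lies below one of `G` -/
theorem exists_over {j : N →* G} (hj : Function.Injective j) {χ : N → ℂ} (hχ : IsIrrCharacter N χ) :
    ∃ Χ : G → ℂ, IsIrrCharacter G Χ ∧ classInner (Χ ∘ j) χ ≠ 0 := by
  classical
  have := Fintype.ofFinite j.range
  let e : N ≃* j.range := MonoidHom.ofInjective hj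
  have h1 : IsIrrCharacter j.range (χ ∘ e.symm) := isIrr_comp e.symm.toMonoidHom e.symm.surjective hχ
  obtain ⟨Χ, hΧ, h2⟩ := Cfsg.Agent.CharDeep.PowerDegrees.exists_irr_over j.range h1
  refine ⟨Χ, hΧ, ?_⟩
  have h3 : classInner (Χ ∘ j) χ = classInner (fun n : j.range => Χ n) (χ ∘ e.symm) := by
    rw [classInner_def, classInner_def, Nat.card_congr e.toEquiv]
    congr 1
    refine Fintype.sum_equiv e.toEquiv _ _ fun x => ?_
    change Χ (j x) * conj (χ x) = Χ (e x : G) * conj (χ (e.symm (e x)))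
    rw [MulEquiv.symm_apply_apply]
    rfl
  rwa [h3]

variable {j : N →* G} (hj : Function.Injective j) (i : A →* N) (ψ : A →* ℂˣ)
  (hG : ∀ Χ : G → ℂ, IsIrrCharacter G Χ → classInner ((Χ ∘ j) ∘ i) (fun a => (ψ a : ℂ)) = 0 ∨
    classInner ((Χ ∘ j) ∘ i) (fun a => (ψ a : ℂ)) = 1)

include hj hG in
theorem key {χ : N → ℂ} (hχ : IsIrrCharacter N χ) :
    ∃ (_ : Fintype (IrrCharacter N)) (f : N → ℂ) (m n : IrrCharacter N → ℕ),
      (∀ c : N →* N, (∃ d : G, ∀ x, j (c x) = d * j x * d⁻¹) → f ∘ c = f) ∧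
      (∀ θ : IrrCharacter N, classInner f (θ : N → ℂ) = m θ) ∧
      (∀ θ : IrrCharacter N, classInner ((θ : N → ℂ) ∘ i) (fun a => (ψ a : ℂ)) = n θ) ∧
      m ⟨χ, hχ⟩ ≠ 0 ∧ ∑ θ, m θ * n θ ≤ 1 := by
  classical
  have := finite_irr (G := N)
  have := Fintype.ofFinite (IrrCharacter N)
  obtain ⟨Χ, hΧ, h1⟩ := exists_over hj hχ
  obtain ⟨m, hm⟩ := exists_nat_comb (isCharacter_comp j (isIrr_isCharacter hΧ))
  have hn : ∀ θ : IrrCharacter N, ∃ n : ℕ, classInner ((θ : N → ℂ) ∘ i) (fun a => (ψ a : ℂ)) = n :=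
    fun θ => classInner_isNat (isCharacter_comp i (isIrr_isCharacter θ.2))
      (Characters.Linear.isCharacter_hom ψ)
  choose n hn using hn
  have hmθ : ∀ θ : IrrCharacter N, classInner (Χ ∘ j) (θ : N → ℂ) = m θ := by
    intro θ
    rw [hm, classInner_sum_nsmul_irr]
  refine ⟨inferInstance, Χ ∘ j, m, n, ?_, hmθ, hn, ?_, ?_⟩
  · rintro c ⟨d, hd⟩
    funext x
    change Χ (j (c x)) = Χ (j x)
    rw [hd, isIrr_isClassFunction hΧ]
  · have := hmθ ⟨χ, hχ⟩
    rw [this] at h1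
    exact_mod_cast h1
  · have h2 : classInner ((Χ ∘ j) ∘ i) (fun a => (ψ a : ℂ)) = ((∑ θ, m θ * n θ : ℕ) : ℂ) := by
      have e : (Χ ∘ j) ∘ i = ∑ θ : IrrCharacter N, (m θ : ℂ) • ((θ : N → ℂ) ∘ i) := by
        rw [hm]
        funext a
        rw [Function.comp_apply, Finset.sum_apply, Finset.sum_apply]
        refine Finset.sum_congr rfl fun θ _ => ?_
        rw [Pi.smul_apply, Pi.smul_apply, nsmul_eq_mul, smul_eq_mul]
        rfl
      rw [e, classInner_sum_left]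
      push_cast
      refine Finset.sum_congr rfl fun θ _ => ?_
      rw [classInner_smul_left, hn]
    have h3 := hG Χ hΧ
    rw [h2] at h3
    rcases h3 with h3 | h3
    · have : ∑ θ, m θ * n θ = 0 := by exact_mod_cast h3
      omega
    · have : ∑ θ, m θ * n θ = 1 := by exact_mod_cast h3
      omega

include hj hG in
/-- At most one. -/
theorem le_one {χ : N → ℂ} (hχ : IsIrrCharacter N χ) {a : ℕ}
    (ha : classInner (χ ∘ i) (fun a => (ψ a : ℂ)) = a) : a ≤ 1 := by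
  classical
  obtain ⟨_, f, m, n, -, -, hn, h0, hs⟩ := key hj i ψ hG hχ
  have h1 : n ⟨χ, hχ⟩ = a := by
    have := hn ⟨χ, hχ⟩
    have h2 : ((n ⟨χ, hχ⟩ : ℕ) : ℂ) = a := this.symm.trans ha
    exact_mod_cast h2
  have h2 : m ⟨χ, hχ⟩ * n ⟨χ, hχ⟩ ≤ ∑ θ, m θ * n θ :=
    Finset.single_le_sum (f := fun θ => m θ * n θ) (fun θ _ => Nat.zero_le _) (Finset.mem_univ _)
  rw [h1] at h2
  have h3 : 1 * a ≤ m ⟨χ, hχ⟩ * a := Nat.mul_le_mul_right _ (Nat.pos_of_ne_zero h0)
  omega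

include hj hG in
/-- Two conjugate characters. -/
theorem add_le_one {χ : N → ℂ} (hχ : IsIrrCharacter N χ) {c : N →* N} (hc : Function.Bijective c)
    (hd : ∃ d : G, ∀ x, j (c x) = d * j x * d⁻¹) (hne : χ ∘ c ≠ χ) {a b : ℕ}
    (ha : classInner (χ ∘ i) (fun a => (ψ a : ℂ)) = a)
    (hb : classInner ((χ ∘ c) ∘ i) (fun a => (ψ a : ℂ)) = b) : a + b ≤ 1 := by
  classical
  obtain ⟨_, f, m, n, hf, hm, hn, h0, hs⟩ := key hj i ψ hG hχ
  have hχ' : IsIrrCharacter N (χ ∘ c) := isIrr_comp c hc.2 hχ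
  have h1 : n ⟨χ, hχ⟩ = a := by
    have := hn ⟨χ, hχ⟩
    have h2 : ((n ⟨χ, hχ⟩ : ℕ) : ℂ) = a := this.symm.trans ha
    exact_mod_cast h2
  have h1' : n ⟨χ ∘ c, hχ'⟩ = b := by
    have := hn ⟨χ ∘ c, hχ'⟩
    have h2 : ((n ⟨χ ∘ c, hχ'⟩ : ℕ) : ℂ) = b := this.symm.trans hb
    exact_mod_cast h2
  have hmm : m ⟨χ ∘ c, hχ'⟩ = m ⟨χ, hχ⟩ := by
    have e1 := hm ⟨χ ∘ c, hχ'⟩
    have e2 := hm ⟨χ, hχ⟩
    have e3 : classInner f (χ ∘ c) = classInner f χ := by
      conv_lhs => rw [← hf c hd]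
      exact inner_bij c hc f χ
    have e4 : ((m ⟨χ ∘ c, hχ'⟩ : ℕ) : ℂ) = m ⟨χ, hχ⟩ := by
      rw [← e1, ← e2]
      exact e3
    exact_mod_cast e4
  have hsub : ({⟨χ, hχ⟩, ⟨χ ∘ c, hχ'⟩} : Finset (IrrCharacter N)) ⊆ Finset.univ := Finset.subset_univ _
  have h2 := Finset.sum_le_sum_of_subset (f := fun θ => m θ * n θ) hsub
  rw [Finset.sum_pair (fun h => hne (congrArg Subtype.val h).symm), h1, h1', hmm] at h2
  have h3 : 1 * (a + b) ≤ m ⟨χ, hχ⟩ * (a + b) := Nat.mul_le_mul_right _ (Nat.pos_of_ne_zero h0)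
  have h4 : m ⟨χ, hχ⟩ * (a + b) = m ⟨χ, hχ⟩ * a + m ⟨χ, hχ⟩ * b := mul_add _ _ _
  omega

end

end Cfsg.Agent.H710.Gow.Star
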